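import Groth.Agent.ThetaRepLib.Level
import Mathlib

/-! # Structure of weight one representations through a maximal level subgroup -/

set_option autoImplicit false

universe u

open scoped Classical

namespace ThetaRepLib

variable {k : Type u} [Field k] {Γ : Type u} [Group Γ] {ι : kˣ →* Γ} (D : Lvl ι)
  {V : Type u} [AddCommGroup V] [Module k V] (ρ : Representation k Γ V)

/-- Weight one. -/
abbrev WOne (ι : kˣ →* Γ) (ρ : Representation k Γ V) : Prop := ∀ (z : kˣ) (v : V), ρ (ι z) v = (z : k) • v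

noncomputable local instance : Fintype D.H := haveI := D.finite_H; Fintype.ofFinite _

noncomputable local instance : Fintype D.Q := haveI := D.finite_Q; Fintype.ofFinite _

namespace Lvl

/-- The invariants of the level subgroup. -/
noncomputable abbrev inv : Submodule k V := Representation.invariants (ρ.comp D.H.subtype)

theorem apply_inv (h : Γ) (hh : h ∈ D.H) (u : D.inv ρ) : ρ h u = u := u.2 ⟨h, hh⟩

/-- The averaging projection. -/
noncomputable def proj : V →ₗ[k] D.inv ρ :=
  LinearMap.codRestrict _ ((Nat.card D.H : k)⁻¹ • ∑ h : D.H, ρ (h : Γ)) fun v g => by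
    show ρ (g : Γ) _ = _
    simp only [LinearMap.smul_apply, map_smul, LinearMap.sum_apply, map_sum]
    congr 1
    exact Fintype.sum_equiv (Equiv.mulLeft g) _ _ fun h => by
      show ρ (g : Γ) (ρ (h : Γ) v) = ρ ((g * h : D.H) : Γ) v
      rw [Subgroup.coe_mul, map_mul]; rfl

theorem proj_coe (v : V) : (D.proj ρ v : V) = (Nat.card D.H : k)⁻¹ • ∑ h : D.H, ρ (h : Γ) v := by
  simp [proj]

theorem proj_of_mem (u : D.inv ρ) : D.proj ρ u = u := Subtype.ext (by
  rw [proj_coe, Finset.sum_congr rfl fun (h : D.H) _ => D.apply_inv ρ h h.2 u, Finset.sum_const, Finset.card_univ,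
    ← Nat.card_eq_fintype_card, ← Nat.cast_smul_eq_nsmul k, smul_smul, inv_mul_cancel₀ D.card_H_ne_zero, one_smul])

variable {ρ}

theorem proj_apply_of_ne (hρ : WOne ι ρ) (γ : Γ) (hγ : D.chi γ ≠ 1) (u : D.inv ρ) : D.proj ρ (ρ γ u) = 0 := by
  let f : D.H →* k := (Units.coeHom k).comp (D.chi γ)⁻¹
  have hf : f ≠ 1 := fun e => hγ (MonoidHom.ext fun h => by
    have := DFunLike.congr_fun e h
    simpa [f] using this)
  have key : ∀ h : D.H, ρ (h : Γ) (ρ γ u) = f h • ρ γ u := fun h => by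
    have e : (h : Γ) * γ = ι (D.chi γ h)⁻¹ * (γ * h) := by rw [D.chi_spec γ h, map_inv]; group
    rw [← Module.End.mul_apply, ← map_mul, e, map_mul, map_mul, Module.End.mul_apply, Module.End.mul_apply,
      D.apply_inv ρ h h.2, hρ]
    rfl
  refine Subtype.ext ?_
  rw [proj_coe, Finset.sum_congr rfl fun h _ => key h, ← Finset.sum_smul, sum_hom_units_eq_zero f hf, zero_smul,
    smul_zero]
  rfl

variable (ρ)

/-- Coordinates to vectors. -/
noncomputable def Phi : (D.Q → D.inv ρ) →ₗ[k] V :=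
  ∑ x : D.Q, (ρ (D.s x)).comp ((D.inv ρ).subtype.comp (LinearMap.proj x))

theorem Phi_apply (f : D.Q → D.inv ρ) : D.Phi ρ f = ∑ x, ρ (D.s x) (f x) := by simp [Phi]

/-- Vectors to coordinates. -/
noncomputable def Psi : V →ₗ[k] (D.Q → D.inv ρ) := LinearMap.pi fun x => (D.proj ρ).comp (ρ (D.s x)⁻¹)

variable {ρ}

theorem Psi_Phi (hρ : WOne ι ρ) (f : D.Q → D.inv ρ) : D.Psi ρ (D.Phi ρ f) = f := by
  funext y
  show D.proj ρ (ρ (D.s y)⁻¹ (D.Phi ρ f)) = f y
  rw [Phi_apply, map_sum, map_sum, Finset.sum_eq_single y]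
  · rw [← Module.End.mul_apply, ← map_mul, inv_mul_cancel, map_one]
    exact D.proj_of_mem ρ (f y)
  · intro x _ hxy
    rw [← Module.End.mul_apply, ← map_mul]
    refine D.proj_apply_of_ne hρ _ (fun e => hxy (Subtype.ext ?_)) _
    rw [map_mul, map_inv, chi_s, chi_s, inv_mul_eq_one] at e
    exact e.symm
  · simp

theorem sum_apply_eq_zero (h : D.H) (hh : h ≠ 1) : ∑ x : D.Q, (((x : D.H →* kˣ) h : kˣ) : k) = 0 := by
  let f : D.Q →* k :=
    { toFun := fun x => (((x : D.H →* kˣ) h : kˣ) : k)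
      map_one' := by simp
      map_mul' := fun x y => by simp }
  refine sum_hom_units_eq_zero f fun e => hh ?_
  have h1 : ∀ γ : Γ, γ * (h : Γ) = (h : Γ) * γ := fun γ => by
    have : D.chi γ h = 1 := Units.ext (DFunLike.congr_fun e (D.act γ))
    rw [D.chi_spec, this, map_one, one_mul]
  obtain ⟨z, hz⟩ : (h : Γ) ∈ ι.range := D.theta.cent ▸ Subgroup.mem_center_iff.2 h1
  have := D.eq_one (z := z) (by rw [hz]; exact h.2)
  rw [this, map_one] at hz
  exact Subtype.ext hz.symm

theorem Phi_Psi (hρ : WOne ι ρ) (v : V) : D.Phi ρ (D.Psi ρ v) = v := by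
  have key : ∀ (x : D.Q) (h : D.H),
      ρ (D.s x) (ρ (h : Γ) (ρ (D.s x)⁻¹ v)) = (((x : D.H →* kˣ) h : kˣ) : k) • ρ (h : Γ) v := fun x h => by
    have e : D.s x * (h * (D.s x)⁻¹) = ι ((x : D.H →* kˣ) h) * h := by
      rw [← mul_assoc, D.chi_spec, chi_s, mul_inv_cancel_right]
    rw [← Module.End.mul_apply, ← Module.End.mul_apply, ← map_mul, ← map_mul, mul_assoc, e, map_mul,
      Module.End.mul_apply, hρ]
  show D.Phi ρ (fun x => D.proj ρ (ρ (D.s x)⁻¹ v)) = v
  simp only [Phi_apply, proj_coe, map_smul, map_sum, key]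
  rw [← Finset.smul_sum, Finset.sum_comm]
  simp only [← Finset.sum_smul]
  rw [Finset.sum_eq_single (1 : D.H) (fun h _ hh => by rw [D.sum_apply_eq_zero h hh, zero_smul]) (by simp)]
  simp only [map_one, Units.val_one, Finset.sum_const, Finset.card_univ, ← Nat.card_eq_fintype_card, OneMemClass.coe_one,
    Module.End.one_apply, nsmul_eq_mul, mul_one]
  rw [smul_smul, D.card_Q, inv_mul_cancel₀ D.card_H_ne_zero, one_smul]

/-- The coordinate isomorphism. -/
noncomputable def equiv (hρ : WOne ι ρ) : (D.Q → D.inv ρ) ≃ₗ[k] V :=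
  LinearEquiv.ofLinear (D.Phi ρ) (D.Psi ρ) (LinearMap.ext (D.Phi_Psi hρ)) (LinearMap.ext (D.Psi_Phi hρ))

theorem finrank_eq [FiniteDimensional k V] (hρ : WOne ι ρ) :
    Module.finrank k V = Nat.card D.Q * Module.finrank k (D.inv ρ) := by
  rw [← (D.equiv hρ).finrank_eq, Module.finrank_pi_fintype, Finset.sum_const, Finset.card_univ,
    Nat.card_eq_fintype_card, smul_eq_mul]

/-- The induced action on coordinates. -/
noncomputable def modelAct (W : Type u) [AddCommGroup W] [Module k W] (γ : Γ) : (D.Q → W) →ₗ[k] (D.Q → W) :=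
  LinearMap.pi fun x => (D.coc γ ((D.act γ)⁻¹ * x) : k) • LinearMap.proj ((D.act γ)⁻¹ * x)

theorem modelAct_apply (W : Type u) [AddCommGroup W] [Module k W] (γ : Γ) (f : D.Q → W) (x : D.Q) :
    D.modelAct W γ f x = (D.coc γ ((D.act γ)⁻¹ * x) : k) • f ((D.act γ)⁻¹ * x) := rfl

theorem Phi_equivariant (hρ : WOne ι ρ) (γ : Γ) (f : D.Q → D.inv ρ) :
    ρ γ (D.Phi ρ f) = D.Phi ρ (D.modelAct _ γ f) := by
  rw [Phi_apply, Phi_apply, map_sum]
  refine Fintype.sum_equiv (Equiv.mulLeft (D.act γ)) _ _ fun y => ?_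
  obtain ⟨h, hh, e⟩ := D.coc_spec γ y
  rw [← Module.End.mul_apply, ← map_mul, e, Equiv.coe_mulLeft, modelAct_apply, inv_mul_cancel_left,
    map_mul, map_mul, Module.End.mul_apply, Module.End.mul_apply, hρ, map_smul, map_smul, D.apply_inv ρ h hh,
    Submodule.coe_smul, map_smul]

/-- The subrepresentation given by a subspace of the invariants. -/
noncomputable def subOf (hρ : WOne ι ρ) (C : Submodule k (D.inv ρ)) : Subrepresentation ρ where
  toSubmodule := (Submodule.pi Set.univ fun _ : D.Q => C).map (D.Phi ρ)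
  apply_mem_toSubmodule γ v hv := by
    obtain ⟨f, hf, rfl⟩ := hv
    exact ⟨D.modelAct _ γ f, fun x _ => C.smul_mem _ (hf _ trivial), (D.Phi_equivariant hρ γ f).symm⟩

theorem mem_subOf (hρ : WOne ι ρ) {C : Submodule k (D.inv ρ)} {v : V} :
    v ∈ (D.subOf hρ C).toSubmodule ↔ ∀ x, D.Psi ρ v x ∈ C :=
  ⟨fun ⟨f, hf, e⟩ x => by rw [← e, D.Psi_Phi hρ]; exact hf x trivial,
    fun h => ⟨D.Psi ρ v, fun x _ => h x, D.Phi_Psi hρ v⟩⟩

theorem eq_subOf (hρ : WOne ι ρ) (U : Subrepresentation ρ) :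
    U = D.subOf hρ (U.toSubmodule.comap (D.inv ρ).subtype) := by
  refine Subrepresentation.ext (le_antisymm (fun v hv => (D.mem_subOf hρ).2 fun x => ?_) fun v hv => ?_)
  · show (D.proj ρ (ρ (D.s x)⁻¹ v) : V) ∈ U.toSubmodule
    rw [proj_coe]
    exact U.toSubmodule.smul_mem _ (U.toSubmodule.sum_mem fun h _ =>
      U.apply_mem_toSubmodule _ (U.apply_mem_toSubmodule _ hv))
  · have hm := (D.mem_subOf hρ).1 hv
    rw [← D.Phi_Psi hρ v, Phi_apply]
    exact U.toSubmodule.sum_mem fun x _ => U.apply_mem_toSubmodule _ (hm x)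

theorem subOf_top (hρ : WOne ι ρ) : D.subOf hρ ⊤ = ⊤ :=
  Subrepresentation.ext (eq_top_iff.2 fun v _ => (D.mem_subOf hρ).2 fun _ => trivial)

theorem subOf_bot (hρ : WOne ι ρ) : D.subOf hρ ⊥ = ⊥ := by
  refine Subrepresentation.ext (eq_bot_iff.2 fun v hv => ?_)
  rw [Submodule.mem_bot, ← D.Phi_Psi hρ v, show D.Psi ρ v = 0 from funext fun x => (D.mem_subOf hρ).1 hv x, map_zero]

theorem subOf_inj (hρ : WOne ι ρ) {C C' : Submodule k (D.inv ρ)} (h : D.subOf hρ C = D.subOf hρ C') : C = C' := by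
  suffices ∀ {C C' : Submodule k (D.inv ρ)}, D.subOf hρ C = D.subOf hρ C' → C ≤ C' from
    le_antisymm (this h) (this h.symm)
  intro C C' h u hu
  have h1 : D.Phi ρ (fun _ => u) ∈ (D.subOf hρ C).toSubmodule := ⟨_, fun x _ => hu, rfl⟩
  rw [h, D.mem_subOf hρ, D.Psi_Phi hρ] at h1
  exact h1 1

include D in
theorem complementedLattice (hρ : WOne ι ρ) : ComplementedLattice (Subrepresentation ρ) := ⟨fun U => by
  obtain ⟨C, hC⟩ := Submodule.exists_isCompl (U.toSubmodule.comap (D.inv ρ).subtype)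
  refine ⟨D.subOf hρ C, ?_⟩
  rw [D.eq_subOf hρ U]
  constructor
  · rw [disjoint_iff]
    refine Subrepresentation.ext (eq_bot_iff.2 fun v hv => ?_)
    rw [Subrepresentation.toSubmodule_inf] at hv
    rw [Submodule.mem_bot, ← D.Phi_Psi hρ v, show D.Psi ρ v = 0 from funext fun x =>
      Submodule.disjoint_def.1 hC.disjoint _ ((D.mem_subOf hρ).1 hv.1 x) ((D.mem_subOf hρ).1 hv.2 x), map_zero]
  · rw [codisjoint_iff]
    refine Subrepresentation.ext (eq_top_iff.2 fun v _ => ?_)
    rw [Subrepresentation.toSubmodule_sup, ← D.Phi_Psi hρ v]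
    have hsplit : ∀ x, ∃ a ∈ U.toSubmodule.comap (D.inv ρ).subtype, ∃ b ∈ C, a + b = D.Psi ρ v x := fun x =>
      Submodule.mem_sup.1 (hC.sup_eq_top ▸ Submodule.mem_top)
    choose a ha b hb hab using hsplit
    rw [show D.Psi ρ v = a + b from funext fun x => (hab x).symm, map_add]
    exact Submodule.add_mem_sup ⟨a, fun x _ => ha x, rfl⟩ ⟨b, fun x _ => hb x, rfl⟩⟩

theorem irreducible_iff (hρ : WOne ι ρ) :
    Representation.IsIrreducible ρ ↔ Module.finrank k (D.inv ρ) = 1 := by
  constructor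
  · intro hirr
    haveI : IsSimpleOrder (Subrepresentation ρ) := hirr
    haveI : Nontrivial (D.inv ρ) := by
      by_contra hn
      rw [not_nontrivial_iff_subsingleton] at hn
      exact bot_ne_top (α := Subrepresentation ρ) (by
        rw [← D.subOf_bot hρ, ← D.subOf_top hρ]; exact congrArg _ (Subsingleton.elim _ _))
    obtain ⟨u, hu⟩ := exists_ne (0 : D.inv ρ)
    refine finrank_eq_one u hu fun w => ?_
    have : D.subOf hρ (k ∙ u) = ⊤ := (eq_bot_or_eq_top _).resolve_left fun e => hu (by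
      have := D.subOf_inj hρ (e.trans (D.subOf_bot hρ).symm)
      rwa [Submodule.span_singleton_eq_bot] at this)
    have := D.subOf_inj hρ (this.trans (D.subOf_top hρ).symm)
    exact Submodule.mem_span_singleton.1 (this ▸ Submodule.mem_top)
  · intro h1
    haveI : Nontrivial (Subrepresentation ρ) := ⟨⊥, ⊤, fun e => by
      have := D.subOf_inj hρ ((D.subOf_bot hρ).trans (e.trans (D.subOf_top hρ).symm))
      haveI hn : Nontrivial (D.inv ρ) := Module.nontrivial_of_finrank_eq_succ h1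
      exact bot_ne_top (α := Submodule k (D.inv ρ)) this⟩
    refine IsSimpleOrder.mk fun U => ?_
    rw [D.eq_subOf hρ U]
    haveI : IsSimpleOrder (Submodule k (D.inv ρ)) := (is_simple_module_of_finrank_eq_one h1)
    rcases eq_bot_or_eq_top (U.toSubmodule.comap (D.inv ρ).subtype) with e | e
    · exact Or.inl (e ▸ D.subOf_bot hρ)
    · exact Or.inr (e ▸ D.subOf_top hρ)

theorem nonempty_equiv [FiniteDimensional k V] {W : Type u} [AddCommGroup W] [Module k W] [FiniteDimensional k W]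
    {σ : Representation k Γ W} (hρ : WOne ι ρ) (hσ : WOne ι σ)
    (h : Module.finrank k (D.inv ρ) = Module.finrank k (D.inv σ)) : Nonempty (ρ.Equiv σ) := by
  obtain ⟨e⟩ := FiniteDimensional.nonempty_linearEquiv_of_finrank_eq h
  let E : V ≃ₗ[k] W := ((D.equiv hρ).symm.trans (LinearEquiv.piCongrRight fun _ => e)).trans (D.equiv hσ)
  refine ⟨Representation.Equiv.mk E fun γ => LinearMap.ext fun v => ?_⟩
  show E (ρ γ v) = σ γ (E v)
  obtain ⟨f, rfl⟩ := (D.equiv hρ).surjective v
  have h1 : ρ γ (D.equiv hρ f) = D.equiv hρ (D.modelAct _ γ f) := D.Phi_equivariant hρ γ f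
  have hE : ∀ f, E (D.equiv hρ f) = D.equiv hσ (fun x => e (f x)) := fun f => by
    simp only [E, LinearEquiv.trans_apply, LinearEquiv.symm_apply_apply]
    rfl
  rw [h1, hE, hE]
  refine Eq.trans ?_ (D.Phi_equivariant hσ γ _).symm
  exact congrArg (D.Phi σ) (funext fun x => map_smul e _ _)

/-- The induced representation on functions. -/
noncomputable def model : Representation k Γ (D.Q → k) where
  toFun γ := D.modelAct k γ
  map_one' := by
    ext f x
    simp [modelAct_apply, act_one, coc_one]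
  map_mul' γ δ := by
    refine LinearMap.ext fun f => funext fun x => ?_
    simp only [Module.End.mul_apply, modelAct_apply, act_mul, coc_mul, Units.val_mul, smul_eq_mul]
    rw [mul_inv_rev, mul_assoc (D.act δ)⁻¹, mul_inv_cancel_left]
    ring

theorem model_wone : WOne ι D.model := fun z f => funext fun x => by
  show D.modelAct k (ι z) f x = _
  rw [modelAct_apply, (D.coc_central z x).1, inv_one, one_mul, (D.coc_central z x).2]
  rfl

theorem finrank_model : Module.finrank k (D.Q → k) = Nat.card D.Q := by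
  rw [Module.finrank_fintype_fun_eq_card, Nat.card_eq_fintype_card]

theorem finrank_inv_model : Module.finrank k (D.inv D.model) = 1 := by
  have h := D.finrank_eq D.model_wone
  rw [D.finrank_model] at h
  have hpos : 0 < Nat.card D.Q := by haveI := D.finite_Q; exact Nat.card_pos
  exact (Nat.mul_left_cancel hpos (h.symm.trans (Nat.mul_one _).symm))

end Lvl

end ThetaRepLib
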