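import Groth.Agent.ThetaRepLib.Level
import Mathlib

/-! # Maximal commutative subgroups of finite theta groups -/

set_option autoImplicit false

universe u

open scoped Classical

namespace ThetaRepLib

variable {k : Type u} [Field k] {Γ : Type u} [Group Γ] {ι : kˣ →* Γ}

theorem Theta.relIndex_sq_eq [IsAlgClosed k] (T : Theta ι) (H : Subgroup Γ) (hH : ι.range ≤ H)
    (hcH : H = Subgroup.centralizer (H : Set Γ)) : ι.range.relIndex H ^ 2 = ι.range.index := by
  have hcomm : ∀ a ∈ H, ∀ b ∈ H, a * b = b * a := fun a ha b hb => (hcH ▸ hb : b ∈ Subgroup.centralizer (H : Set Γ)) a ha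
  obtain ⟨L, hL, hLH, hmax⟩ := T.exists_maximal_in H
  have hdec : ∀ γ ∈ H, ∃ h ∈ L, ∃ z : kˣ, γ = h * ι z := fun γ hγ =>
    T.exists_decomp L H hLH hH hL hmax γ hγ fun h hh => hcomm h (hLH hh) γ hγ
  obtain ⟨D, rfl⟩ := T.exists_lvl L hL fun L' hL' hle => hmax L' hL' (fun x hx => by
    rw [hcH]
    intro a ha
    obtain ⟨h, hh, z, rfl⟩ := hdec a ha
    have hhx : h * x = x * h := by
      obtain ⟨w, hw⟩ := T.exists_comm h x
      have hw1 : ι w ∈ L' ⊓ ι.range := ⟨by
        rw [show ι w = h * x * h⁻¹ * x⁻¹ by rw [hw]; group]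
        exact L'.mul_mem (L'.mul_mem (L'.mul_mem (hle hh) hx) (L'.inv_mem (hle hh))) (L'.inv_mem hx), w, rfl⟩
      rw [hL', Subgroup.mem_bot] at hw1
      rw [hw, hw1, one_mul]
    rw [mul_assoc, ← T.central z x, ← mul_assoc, hhx, mul_assoc]) hle
  haveI := D.finite_H
  haveI := T.fin
  have hidx : ι.range.relIndex H = Nat.card D.H := by
    refine (Nat.card_eq_of_bijective (fun h : D.H =>
      (QuotientGroup.mk (⟨h, hLH h.2⟩ : H) : H ⧸ ι.range.subgroupOf H)) ⟨fun a b e => ?_, fun q => ?_⟩).symm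
    · obtain ⟨z, hz⟩ := QuotientGroup.eq.1 e
      have hz' : ι z = (a : Γ)⁻¹ * b := hz
      have := D.eq_one (z := z) (by rw [hz']; exact mul_mem (inv_mem a.2) b.2)
      rw [this, map_one, eq_comm, inv_mul_eq_one] at hz'
      exact Subtype.ext hz'
    · obtain ⟨⟨γ, hγ⟩, rfl⟩ := QuotientGroup.mk_surjective q
      obtain ⟨h, hh, z, rfl⟩ := hdec γ hγ
      exact ⟨⟨h, hh⟩, QuotientGroup.eq.2 ⟨z, show ι z = h⁻¹ * (h * ι z) by group⟩⟩
  rw [hidx, Subgroup.index, D.card_quotient, D.card_Q, sq]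

theorem Theta.tfae [IsAlgClosed k] (T : Theta ι) (H : Subgroup Γ) (hH : ι.range ≤ H) :
    List.TFAE [
      IsMulCommutative H ∧ ∀ H' : Subgroup Γ, IsMulCommutative H' → H ≤ H' → H' = H,
      IsMulCommutative H ∧ (ι.range.relIndex H) ^ 2 = ι.range.index,
      H = Subgroup.centralizer (H : Set Γ)] := by
  have toComm : ∀ K : Subgroup Γ, K = Subgroup.centralizer (K : Set Γ) → IsMulCommutative K := fun K h =>
    ⟨⟨fun a b => Subtype.ext ((h ▸ b.2 : (b : Γ) ∈ Subgroup.centralizer (K : Set Γ)) a a.2)⟩⟩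
  have h13 : ∀ K : Subgroup Γ, (IsMulCommutative K ∧ ∀ H' : Subgroup Γ, IsMulCommutative H' → K ≤ H' → H' = K) →
      K = Subgroup.centralizer (K : Set Γ) := fun K ⟨hc, hmax⟩ => by
    refine le_antisymm (fun x hx a ha => congrArg Subtype.val (hc.1.1 (⟨a, ha⟩ : K) ⟨x, hx⟩)) fun γ hγ => ?_
    have hcl : IsMulCommutative (Subgroup.closure (insert γ (K : Set Γ))) :=
      Subgroup.isMulCommutative_closure (by
        rintro a (rfl | ha) b (rfl | hb)
        · rfl
        · exact (hγ b hb).symm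
        · exact hγ a ha
        · exact congrArg Subtype.val (hc.1.1 (⟨a, ha⟩ : K) ⟨b, hb⟩))
    have he := hmax _ hcl ((Subgroup.closure_eq K).symm.le.trans (Subgroup.closure_mono (Set.subset_insert _ _)))
    exact he ▸ Subgroup.subset_closure (Set.mem_insert _ _)
  have h31 : H = Subgroup.centralizer (H : Set Γ) →
      IsMulCommutative H ∧ ∀ H' : Subgroup Γ, IsMulCommutative H' → H ≤ H' → H' = H := fun h =>
    ⟨toComm H h, fun H' hc hle => le_antisymm (fun x hx => by
      rw [h]; exact fun a ha => congrArg Subtype.val (hc.1.1 (⟨a, hle ha⟩ : H') ⟨x, hx⟩)) hle⟩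
  tfae_have 1 → 3 := h13 H
  tfae_have 3 → 1 := h31
  tfae_have 3 → 2 := fun h => ⟨toComm H h, T.relIndex_sq_eq H hH h⟩
  tfae_have 2 → 3 := fun ⟨hc, hidx⟩ => by
    haveI := T.fin
    have hbd : {n | ∃ K : Subgroup Γ, H ≤ K ∧ IsMulCommutative K ∧ ι.range.relIndex K = n}.Finite :=
      (Set.finite_le_nat ι.range.index).subset fun n ⟨K, _, _, hn⟩ => by
        rw [← hn, ← Subgroup.relIndex_top_right]
        exact Subgroup.relIndex_le_of_le_right le_top (by
          rw [Subgroup.relIndex_top_right]; exact (Nat.card_pos (α := Γ ⧸ ι.range)).ne')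
    obtain ⟨n, ⟨K, hHK, hKc, rfl⟩, hmax⟩ := hbd.exists_maximal ⟨_, H, le_rfl, hc, rfl⟩
    have hne : ∀ K' : Subgroup Γ, ι.range.relIndex K' ≠ 0 := fun K' e => by
      have := Subgroup.index_eq_zero_of_relIndex_eq_zero e
      exact (Nat.card_pos (α := Γ ⧸ ι.range)).ne' this
    have heq : ∀ A B : Subgroup Γ, ι.range ≤ A → A ≤ B → ι.range.relIndex B ≤ ι.range.relIndex A → B = A := by
      intro A B hA hAB hle
      have hmul := Subgroup.relIndex_mul_relIndex ι.range A B hA hAB
      have h2 : A.relIndex B = 1 := by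
        rcases Nat.lt_trichotomy (A.relIndex B) 1 with h | h | h
        · exfalso; exact hne B (by rw [← hmul, Nat.lt_one_iff.1 h, mul_zero])
        · exact h
        · exfalso
          have := Nat.mul_le_mul_left (ι.range.relIndex A) h
          have := Nat.pos_of_ne_zero (hne A)
          omega
      exact le_antisymm (Subgroup.relIndex_eq_one.1 h2) hAB
    have hKmax : ∀ K' : Subgroup Γ, IsMulCommutative K' → K ≤ K' → K' = K := fun K' hc' hle' => by
      refine heq K K' (hH.trans hHK) hle' (hmax ⟨K', hHK.trans hle', hc', rfl⟩ ?_)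
      have := Subgroup.relIndex_mul_relIndex ι.range K K' (hH.trans hHK) hle'
      rw [← this]
      exact Nat.le_mul_of_pos_right _ (Nat.pos_of_ne_zero fun e => hne K' (by rw [← this, e, mul_zero]))
    have hKC := h13 K ⟨hKc, hKmax⟩
    have hsq := T.relIndex_sq_eq K (hH.trans hHK) hKC
    rw [← hidx] at hsq
    obtain rfl : K = H := heq H K hH hHK (Nat.pow_left_injective two_ne_zero hsq).le
    exact hKC
  tfae_finish

end ThetaRepLib
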