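import Mathlib

/-! # Weight one representations of finite theta groups and level subgroups -/

set_option autoImplicit false

universe u

open scoped Classical commutatorElement

namespace ThetaRepLib

theorem card_monoidHom_units_le (k : Type u) [Field k] (G : Type u) [CommGroup G] [Finite G] :
    Finite (G →* kˣ) ∧ Nat.card (G →* kˣ) ≤ Nat.card G := by
  haveI := Fintype.ofFinite G
  have hi : Function.Injective fun f : G →* kˣ => (Units.coeHom k).comp f := fun f g h =>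
    MonoidHom.ext fun x => Units.ext (DFunLike.congr_fun h x)
  have li := (linearIndependent_monoidHom G k).comp _ hi
  haveI : Finite (G →* kˣ) := li.finite
  haveI := Fintype.ofFinite (G →* kˣ)
  refine ⟨inferInstance, ?_⟩
  have h := li.fintype_card_le_finrank
  rw [Module.finrank_fintype_fun_eq_card] at h
  rwa [Nat.card_eq_fintype_card, Nat.card_eq_fintype_card]

variable {k : Type u} [Field k] {Γ : Type u} [Group Γ]

/-- The standing hypotheses on a finite theta group. -/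
structure Theta (ι : kˣ →* Γ) : Prop where
  inj : Function.Injective ι
  cent : ι.range = Subgroup.center Γ
  comm : commutator Γ ≤ ι.range
  fin : Finite (Γ ⧸ ι.range)
  cop : (Nat.card (Γ ⧸ ι.range)).Coprime (ringExpChar k)

variable {ι : kˣ →* Γ}

theorem Theta.central (T : Theta ι) (z : kˣ) (γ : Γ) : γ * ι z = ι z * γ :=
  Subgroup.mem_center_iff.1 (T.cent ▸ ⟨z, rfl⟩ : ι z ∈ Subgroup.center Γ) γ

theorem Theta.exists_comm (T : Theta ι) (γ δ : Γ) : ∃ z : kˣ, γ * δ = ι z * δ * γ := by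
  have h : ⁅γ, δ⁆ ∈ ι.range := T.comm (Subgroup.commutator_mem_commutator (Subgroup.mem_top γ) (Subgroup.mem_top δ))
  obtain ⟨z, hz⟩ := h
  exact ⟨z, by rw [hz, commutatorElement_def]; group⟩

theorem Theta.card_ne_zero (T : Theta ι) {m : ℕ} (h : m ∣ Nat.card (Γ ⧸ ι.range)) : (m : k) ≠ 0 := by
  haveI := T.fin
  intro h0
  rcases CharP.exists' k with hk | ⟨p, hp, hk⟩
  · exact (Nat.cast_ne_zero.2 (ne_zero_of_dvd_ne_zero Nat.card_pos.ne' h)) h0
  · have hpe : ringExpChar k = p := ringExpChar.eq k p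
    have hcop := T.cop
    rw [hpe] at hcop
    exact (Nat.Prime.coprime_iff_not_dvd hp.out).1 hcop.symm (((CharP.cast_eq_zero_iff k p m).1 h0).trans h)

/-- A maximal level subgroup, through the property of its centralizer. -/
structure Lvl (ι : kˣ →* Γ) where
  theta : Theta ι
  H : Subgroup Γ
  inf_eq : H ⊓ ι.range = ⊥
  centralizer : ∀ γ : Γ, (∀ h ∈ H, h * γ = γ * h) → ∃ h ∈ H, ∃ z : kˣ, γ = h * ι z

namespace Lvl

variable (D : Lvl ι)

theorem eq_one {z : kˣ} (h : ι z ∈ D.H) : z = 1 := by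
  have : ι z ∈ D.H ⊓ ι.range := ⟨h, z, rfl⟩
  rw [D.inf_eq, Subgroup.mem_bot] at this
  exact D.theta.inj (by rw [this, map_one])

theorem comm_of_mem {a b : Γ} (ha : a ∈ D.H) (hb : b ∈ D.H) : a * b = b * a := by
  obtain ⟨z, hz⟩ := D.theta.exists_comm a b
  have hz1 : z = 1 := D.eq_one (by
    have : ι z = a * b * a⁻¹ * b⁻¹ := by rw [hz]; group
    rw [this]; exact mul_mem (mul_mem (mul_mem ha hb) (inv_mem ha)) (inv_mem hb))
  rw [hz, hz1, map_one, one_mul]

/-- The commutator pairing value. -/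
noncomputable def cc (γ δ : Γ) : kˣ := (D.theta.exists_comm γ δ).choose

theorem cc_spec (γ δ : Γ) : γ * δ = ι (D.cc γ δ) * δ * γ := (D.theta.exists_comm γ δ).choose_spec

theorem cc_eq {γ δ : Γ} {z : kˣ} (h : γ * δ = ι z * δ * γ) : D.cc γ δ = z :=
  D.theta.inj (mul_right_cancel (mul_right_cancel ((D.cc_spec γ δ).symm.trans h)))

/-- The character of the level subgroup given by an element. -/
noncomputable def chi : Γ →* (D.H →* kˣ) where
  toFun γ :=
    { toFun := fun h => D.cc γ h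
      map_one' := D.cc_eq (by simp)
      map_mul' := fun a b => D.cc_eq (by
        rw [Subgroup.coe_mul, ← mul_assoc, D.cc_spec γ a, mul_assoc, D.cc_spec γ b, map_mul]
        simp only [← mul_assoc]
        rw [mul_assoc (ι (D.cc γ a)) (a : Γ), D.theta.central (D.cc γ b) a, ← mul_assoc]) }
  map_one' := MonoidHom.ext fun h => D.cc_eq (by simp)
  map_mul' γ δ := MonoidHom.ext fun h => D.cc_eq (by
    show γ * δ * h = ι (D.cc γ h * D.cc δ h) * h * (γ * δ)
    rw [mul_assoc γ δ, D.cc_spec δ h, ← mul_assoc, ← mul_assoc, D.theta.central (D.cc δ h) γ, mul_assoc (ι _) γ,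
      D.cc_spec γ h, mul_comm (D.cc γ h), map_mul]
    group)

theorem chi_spec (γ : Γ) (h : D.H) : γ * h = ι (D.chi γ h) * h * γ := D.cc_spec γ h

theorem chi_eq_one_iff {γ : Γ} : D.chi γ = 1 ↔ ∀ h ∈ D.H, h * γ = γ * h := by
  refine ⟨fun e h hh => ?_, fun e => MonoidHom.ext fun h => D.cc_eq (by show _ = ι 1 * _ * _; rw [map_one, one_mul, e h h.2])⟩
  rw [D.chi_spec γ ⟨h, hh⟩, e, MonoidHom.one_apply, map_one, one_mul]

/-- The group of characters coming from the theta group. -/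
noncomputable abbrev Q := D.chi.range

/-- A section. -/
noncomputable def s (x : D.Q) : Γ := x.2.choose

theorem chi_s (x : D.Q) : D.chi (D.s x) = x := x.2.choose_spec

/-- The action of the group on the index set. -/
noncomputable def act (γ : Γ) : D.Q := D.chi.rangeRestrict γ

theorem act_mul (γ δ : Γ) : D.act (γ * δ) = D.act γ * D.act δ := map_mul _ _ _

theorem act_one : D.act 1 = 1 := map_one _

theorem exists_L (γ : D.chi.ker) : ∃ z : kˣ, (γ : Γ) * (ι z)⁻¹ ∈ D.H := by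
  obtain ⟨h, hh, z, hz⟩ := D.centralizer γ (D.chi_eq_one_iff.1 γ.2)
  exact ⟨z, by rw [hz]; simpa using hh⟩

/-- The scalar part of an element of the centralizer of the level subgroup. -/
noncomputable def L : D.chi.ker →* kˣ :=
  have uniq : ∀ (γ : D.chi.ker) (z : kˣ), (γ : Γ) * (ι z)⁻¹ ∈ D.H → (D.exists_L γ).choose = z := fun γ z hz => by
    have h : ι (z⁻¹ * (D.exists_L γ).choose) ∈ D.H := by
      have := mul_mem (inv_mem (D.exists_L γ).choose_spec) hz
      rw [mul_inv_rev, inv_inv] at this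
      have e : ι (z⁻¹ * (D.exists_L γ).choose) = ι (D.exists_L γ).choose * (γ : Γ)⁻¹ * ((γ : Γ) * (ι z)⁻¹) := by
        rw [mul_comm, map_mul, map_inv]; group
      rwa [e]
    exact (inv_mul_eq_one.1 (D.eq_one h)).symm
  { toFun := fun γ => (D.exists_L γ).choose
    map_one' := uniq 1 1 (by simp)
    map_mul' := fun γ δ => uniq _ _ (by
      have h := mul_mem (D.exists_L γ).choose_spec (D.exists_L δ).choose_spec
      generalize (D.exists_L γ).choose = a at h ⊢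
      generalize (D.exists_L δ).choose = b at h ⊢
      have e : ((γ * δ : D.chi.ker) : Γ) * (ι (a * b))⁻¹ = (γ : Γ) * (ι a)⁻¹ * ((δ : Γ) * (ι b)⁻¹) := by
        rw [mul_comm a b, Subgroup.coe_mul, map_mul, mul_inv_rev, ← map_inv ι a]
        rw [show (γ : Γ) * ι a⁻¹ * ((δ : Γ) * (ι b)⁻¹) = (γ : Γ) * (ι a⁻¹ * (δ : Γ)) * (ι b)⁻¹ by group,
          ← D.theta.central a⁻¹ δ]
        group
      rwa [e]) }

theorem L_spec (γ : D.chi.ker) : (γ : Γ) * (ι (D.L γ))⁻¹ ∈ D.H := (D.exists_L γ).choose_spec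

theorem L_unique {γ : D.chi.ker} {z : kˣ} (h : (γ : Γ) * (ι z)⁻¹ ∈ D.H) : D.L γ = z := by
  have h2 : ι (z⁻¹ * D.L γ) ∈ D.H := by
    have e : ι (z⁻¹ * D.L γ) = ((γ : Γ) * (ι (D.L γ))⁻¹)⁻¹ * ((γ : Γ) * (ι z)⁻¹) := by
      rw [mul_comm, map_mul, map_inv]; group
    rw [e]; exact mul_mem (inv_mem (D.L_spec γ)) h
  exact (inv_mul_eq_one.1 (D.eq_one h2)).symm

theorem mem_ker_aux (γ : Γ) (y : D.Q) : (D.s (D.act γ * y))⁻¹ * γ * D.s y ∈ D.chi.ker := by
  rw [MonoidHom.mem_ker, map_mul, map_mul, map_inv, chi_s, chi_s]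
  show (D.chi γ * (y : D.H →* kˣ))⁻¹ * D.chi γ * (y : D.H →* kˣ) = 1
  exact MonoidHom.ext fun t => by simp

/-- The cocycle of the induced representation. -/
noncomputable def coc (γ : Γ) (y : D.Q) : kˣ := D.L ⟨_, D.mem_ker_aux γ y⟩

theorem coc_spec (γ : Γ) (y : D.Q) :
    ∃ h ∈ D.H, γ * D.s y = D.s (D.act γ * y) * h * ι (D.coc γ y) := by
  refine ⟨_, D.L_spec ⟨_, D.mem_ker_aux γ y⟩, ?_⟩
  show _ = D.s (D.act γ * y) * ((D.s (D.act γ * y))⁻¹ * γ * D.s y * (ι (D.coc γ y))⁻¹) * ι (D.coc γ y)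
  group

theorem coc_one (y : D.Q) : D.coc 1 y = 1 := D.L_unique (by simp [act_one])

theorem coc_mul (γ δ : Γ) (y : D.Q) : D.coc (γ * δ) y = D.coc γ (D.act δ * y) * D.coc δ y := by
  unfold coc
  rw [← map_mul]
  congr 1
  ext
  simp only [Subgroup.coe_mul, act_mul, mul_assoc, mul_inv_cancel_left]

theorem coc_central (z : kˣ) (y : D.Q) : D.act (ι z) = 1 ∧ D.coc (ι z) y = z := by
  have h0 : D.act (ι z) = 1 := Subtype.ext (D.chi_eq_one_iff.2 fun h _ => D.theta.central z h)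
  refine ⟨h0, D.L_unique ?_⟩
  show (D.s (D.act (ι z) * y))⁻¹ * ι z * D.s y * (ι z)⁻¹ ∈ D.H
  rw [h0, one_mul, mul_assoc (D.s y)⁻¹ (ι z), ← D.theta.central z (D.s y)]
  simp

theorem finite_H : Finite D.H := by
  haveI := D.theta.fin
  refine Finite.of_injective (fun h : D.H => (QuotientGroup.mk (h : Γ) : Γ ⧸ ι.range)) fun a b e => ?_
  obtain ⟨z, hz⟩ := QuotientGroup.eq.1 e
  have := D.eq_one (z := z) (by rw [hz]; exact mul_mem (inv_mem a.2) b.2)
  rw [this, map_one, eq_comm, inv_mul_eq_one] at hz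
  exact Subtype.ext hz

theorem finite_Q : Finite D.Q := by
  haveI := D.finite_H
  letI : CommGroup D.H := { mul_comm := fun a b => Subtype.ext (D.comm_of_mem a.2 b.2) }
  haveI := (card_monoidHom_units_le k D.H).1
  infer_instance

theorem card_Q : Nat.card D.Q = Nat.card D.H := by
  haveI := D.finite_H
  haveI := D.finite_Q
  letI : CommGroup D.H := { mul_comm := fun a b => Subtype.ext (D.comm_of_mem a.2 b.2) }
  haveI := (card_monoidHom_units_le k D.H).1
  refine le_antisymm ((Nat.card_le_card_of_injective _ Subtype.val_injective).trans (card_monoidHom_units_le k D.H).2) ?_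
  haveI := (card_monoidHom_units_le k D.Q).1
  let ev : D.H → (D.Q →* kˣ) := fun h => { toFun := fun x => (x : D.H →* kˣ) h, map_one' := rfl, map_mul' := fun _ _ => rfl }
  refine (Nat.card_le_card_of_injective ev fun a b e => ?_).trans (card_monoidHom_units_le k D.Q).2
  have h1 : ∀ γ : Γ, γ * ((a * b⁻¹ : D.H) : Γ) = ((a * b⁻¹ : D.H) : Γ) * γ := fun γ => by
    have : D.chi γ a = D.chi γ b := DFunLike.congr_fun e (D.act γ)
    rw [D.chi_spec, map_mul, map_inv, this, mul_inv_cancel, map_one, one_mul]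
  obtain ⟨z, hz⟩ : ((a * b⁻¹ : D.H) : Γ) ∈ ι.range := D.theta.cent ▸ Subgroup.mem_center_iff.2 h1
  have := D.eq_one (z := z) (by rw [hz]; exact (a * b⁻¹).2)
  rw [this, map_one] at hz
  exact mul_inv_eq_one.1 (Subtype.ext hz.symm)

theorem card_quotient : Nat.card (Γ ⧸ ι.range) = Nat.card D.Q * Nat.card D.H := by
  rw [← Nat.card_prod]
  refine (Nat.card_eq_of_bijective (fun p : D.Q × D.H => (QuotientGroup.mk (D.s p.1 * p.2) : Γ ⧸ ι.range)) ⟨?_, ?_⟩).symm
  · rintro ⟨x, a⟩ ⟨y, b⟩ e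
    obtain ⟨z, hz⟩ := QuotientGroup.eq.1 e
    have hh : D.s y * b = D.s x * a * ι z := by rw [hz]; group
    have hk : ∀ c : D.H, D.chi (c : Γ) = 1 := fun c => D.chi_eq_one_iff.2 fun h hh' => D.comm_of_mem hh' c.2
    have hc := congrArg D.chi hh
    rw [map_mul, map_mul, map_mul, hk, hk, chi_s, chi_s, D.chi_eq_one_iff.2 fun h _ => D.theta.central z h] at hc
    obtain rfl : y = x := Subtype.ext (MonoidHom.ext fun t => by simpa using DFunLike.congr_fun hc t)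
    rw [mul_assoc] at hh
    have h2 : (b : Γ) = a * ι z := mul_left_cancel hh
    have := D.eq_one (z := z) (by
      rw [show ι z = (a : Γ)⁻¹ * b by rw [h2]; group]; exact mul_mem (inv_mem a.2) b.2)
    rw [this, map_one, mul_one] at h2
    exact Prod.ext rfl (Subtype.ext h2.symm)
  · intro q
    obtain ⟨γ, rfl⟩ := QuotientGroup.mk_surjective q
    obtain ⟨h, hh, e⟩ := D.coc_spec γ 1
    obtain ⟨h1, hh1, e1⟩ := D.coc_spec 1 1
    obtain ⟨h', hh', z', e'⟩ := D.centralizer ((D.s (D.act γ))⁻¹ * γ) (D.chi_eq_one_iff.1 (by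
      rw [map_mul, map_inv, chi_s]; exact inv_mul_cancel _))
    refine ⟨(D.act γ, ⟨h', hh'⟩), QuotientGroup.eq.2 ⟨z', ?_⟩⟩
    rw [mul_inv_rev, mul_assoc, e']
    group

theorem card_H_ne_zero : (Nat.card D.H : k) ≠ 0 :=
  D.theta.card_ne_zero (D.card_quotient ▸ Dvd.intro_left _ rfl)

end Lvl

theorem Theta.exists_decomp [IsAlgClosed k] (T : Theta ι) (H A : Subgroup Γ) (hHA : H ≤ A) (hA : ι.range ≤ A)
    (hH : H ⊓ ι.range = ⊥) (hmax : ∀ H' : Subgroup Γ, H' ⊓ ι.range = ⊥ → H' ≤ A → H ≤ H' → H' = H)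
    (γ : Γ) (hγA : γ ∈ A) (hγ : ∀ h ∈ H, h * γ = γ * h) : ∃ h ∈ H, ∃ z : kˣ, γ = h * ι z := by
  have hex : ∃ m : ℕ, 0 < m ∧ ∃ h ∈ H, ∃ z : kˣ, γ ^ m = h * ι z := by
    haveI := T.fin
    haveI : ι.range.Normal := T.cent ▸ inferInstance
    have h1 : ((γ ^ Nat.card (Γ ⧸ ι.range) : Γ) : Γ ⧸ ι.range) = 1 := by
      rw [QuotientGroup.mk_pow, pow_card_eq_one']
    obtain ⟨z, hz⟩ := (QuotientGroup.eq_one_iff _).1 h1
    exact ⟨_, Nat.card_pos, 1, one_mem _, z, by rw [one_mul, hz]⟩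
  obtain ⟨hm, h₀, hh₀, z₀, hz₀⟩ := Nat.find_spec hex
  set m := Nat.find hex
  obtain ⟨w, hw⟩ := IsAlgClosed.exists_pow_nat_eq ((z₀⁻¹ : kˣ) : k) hm
  have hw0 : w ≠ 0 := fun h0 => (z₀⁻¹).ne_zero (by rw [← hw, h0, zero_pow hm.ne'])
  let g : Γ := γ * ι (Units.mk0 w hw0)
  have hc1 : Commute γ (ι (Units.mk0 w hw0)) := T.central _ _
  have hgm : g ^ m = h₀ := by
    show (γ * ι (Units.mk0 w hw0)) ^ m = h₀
    rw [hc1.mul_pow, hz₀, ← map_pow, mul_assoc, ← map_mul]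
    have : z₀ * Units.mk0 w hw0 ^ m = 1 := by
      ext
      rw [Units.val_mul, Units.val_pow_eq_pow_val, Units.val_mk0, hw, Units.mul_inv, Units.val_one]
    rw [this, map_one, mul_one]
  have hgH : ∀ h ∈ H, Commute g h := fun h hh =>
    (show Commute γ h from (hγ h hh).symm).mul_left (T.central _ h).symm
  have hgj : ∀ h ∈ H, ∀ j : ℤ, Commute (g ^ j) h := fun h hh j => (hgH h hh).zpow_left j
  let H' : Subgroup Γ :=
    { carrier := {x | ∃ h ∈ H, ∃ j : ℤ, x = h * g ^ j}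
      one_mem' := ⟨1, one_mem _, 0, by simp⟩
      mul_mem' := by
        rintro _ _ ⟨a, ha, i, rfl⟩ ⟨b, hb, j, rfl⟩
        refine ⟨a * b, mul_mem ha hb, i + j, ?_⟩
        rw [zpow_add, mul_assoc, mul_assoc, ← mul_assoc (g ^ i) b, (hgj b hb i).eq, mul_assoc]
      inv_mem' := by
        rintro _ ⟨a, ha, i, rfl⟩
        refine ⟨a⁻¹, inv_mem ha, -i, ?_⟩
        rw [mul_inv_rev, zpow_neg, ((hgj a ha i).inv_inv).eq] }
  have hle : H ≤ H' := fun h hh => ⟨h, hh, 0, by simp⟩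
  have hlevel : H' ⊓ ι.range = ⊥ := by
    rw [eq_bot_iff]
    rintro _ ⟨⟨h, hh, j, rfl⟩, z, hz⟩
    have hr : ∃ h' ∈ H, g ^ (j % m) = h' * ι z := by
      refine ⟨h₀ ^ (-(j / m)) * h⁻¹, mul_mem (zpow_mem hh₀ _) (inv_mem hh), ?_⟩
      rw [hz, mul_assoc, inv_mul_cancel_left, ← hgm, ← zpow_natCast g m, ← zpow_mul, ← zpow_add]
      congr 1
      have := Int.emod_add_mul_ediv j m
      linarith
    obtain ⟨h', hh', he⟩ := hr
    have hjm : j % (m : ℤ) = 0 := by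
      by_contra hne
      have hpos : 0 < j % (m : ℤ) := lt_of_le_of_ne (Int.emod_nonneg _ (by omega)) (Ne.symm hne)
      have hlt : j % (m : ℤ) < m := Int.emod_lt_of_pos _ (by omega)
      obtain ⟨r, hr⟩ : ∃ r : ℕ, j % (m : ℤ) = r := ⟨(j % (m : ℤ)).toNat, (Int.toNat_of_nonneg hpos.le).symm⟩
      refine Nat.find_min hex (show r < m by omega) ⟨by omega, h', hh', z * (Units.mk0 w hw0 ^ r)⁻¹, ?_⟩
      rw [hr, zpow_natCast, hc1.mul_pow] at he
      rw [map_mul, ← mul_assoc, ← he, map_inv, map_pow, mul_inv_cancel_right]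
    rw [hjm, zpow_zero] at he
    have hz1 : ι z ∈ H ⊓ ι.range := ⟨by rw [show ι z = h'⁻¹ from (inv_eq_of_mul_eq_one_right he.symm).symm]; exact H.inv_mem hh', z, rfl⟩
    rw [hH, Subgroup.mem_bot] at hz1
    rw [← hz, hz1]
    exact one_mem _
  have hH'A : H' ≤ A := by
    rintro _ ⟨h, hh, j, rfl⟩
    exact mul_mem (hHA hh) (zpow_mem (mul_mem hγA (hA ⟨_, rfl⟩)) j)
  have hg : g ∈ H := hmax H' hlevel hH'A hle ▸ (⟨1, one_mem _, 1, by simp⟩ : g ∈ H')
  exact ⟨g, hg, (Units.mk0 w hw0)⁻¹, by rw [map_inv]; simp [g]⟩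

theorem Theta.exists_lvl [IsAlgClosed k] (T : Theta ι) (H : Subgroup Γ) (hH : H ⊓ ι.range = ⊥)
    (hmax : ∀ H' : Subgroup Γ, H' ⊓ ι.range = ⊥ → H ≤ H' → H' = H) :
    ∃ D : Lvl ι, D.H = H :=
  ⟨⟨T, H, hH, fun γ hγ => T.exists_decomp H ⊤ le_top le_top hH (fun H' h _ hle => hmax H' h hle) γ trivial hγ⟩, rfl⟩

theorem Theta.exists_maximal_in (T : Theta ι) (A : Subgroup Γ) :
    ∃ H : Subgroup Γ, H ⊓ ι.range = ⊥ ∧ H ≤ A ∧
      ∀ H' : Subgroup Γ, H' ⊓ ι.range = ⊥ → H' ≤ A → H ≤ H' → H' = H := by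
  haveI := T.fin
  have hinj : ∀ H : Subgroup Γ, H ⊓ ι.range = ⊥ →
      Function.Injective fun h : H => (QuotientGroup.mk (h : Γ) : Γ ⧸ ι.range) := fun H hH a b e => by
    have : (a : Γ)⁻¹ * b ∈ H ⊓ ι.range := ⟨H.mul_mem (H.inv_mem a.2) b.2, QuotientGroup.eq.1 e⟩
    rw [hH, Subgroup.mem_bot, inv_mul_eq_one] at this
    exact Subtype.ext this
  let P : ℕ → Prop := fun n => ∃ H : Subgroup Γ, H ⊓ ι.range = ⊥ ∧ H ≤ A ∧ Nat.card H = n
  obtain ⟨n, ⟨H, hH, hHA, rfl⟩, hmax⟩ := Set.Finite.exists_maximal (s := {n | P n})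
    ((Set.finite_le_nat (Nat.card (Γ ⧸ ι.range))).subset fun n ⟨H, hH, _, hn⟩ => hn ▸ Nat.card_le_card_of_injective _ (hinj H hH))
    ⟨_, ⊥, bot_inf_eq _, bot_le, rfl⟩
  refine ⟨H, hH, hHA, fun H' hH' hA' hle => ?_⟩
  haveI : Finite H' := Finite.of_injective _ (hinj H' hH')
  have hc : Nat.card H' ≤ Nat.card H := hmax ⟨H', hH', hA', rfl⟩ (Subgroup.card_le_of_le hle)
  exact (Subgroup.eq_of_le_of_card_ge hle hc).symm

theorem Theta.exists_maximal (T : Theta ι) :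
    ∃ H : Subgroup Γ, H ⊓ ι.range = ⊥ ∧ ∀ H' : Subgroup Γ, H' ⊓ ι.range = ⊥ → H ≤ H' → H' = H := by
  obtain ⟨H, hH, -, hmax⟩ := T.exists_maximal_in ⊤
  exact ⟨H, hH, fun H' h hle => hmax H' h le_top hle⟩

end ThetaRepLib
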